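import Mathlib.Algebra.Homology.HomologicalComplexLimits
import Mathlib.Algebra.Homology.HomologicalComplexAbelian
import Mathlib.Algebra.Homology.ShortComplex.ShortExact
import Mathlib.Algebra.Category.ModuleCat.Colimits
import Mathlib.Algebra.Category.ModuleCat.Abelian
import Mathlib.CategoryTheory.Limits.Preserves.Shapes.Products
import Mathlib.LinearAlgebra.Finsupp.Span
import Mathlib.LinearAlgebra.DFinsupp

/-!
# The telescope short exact sequence of complexes of modules
-/

set_option autoImplicit false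
set_option backward.isDefEq.respectTransparency false

universe v u

open CategoryTheory Limits

namespace Groth.Agent.CompactTele

variable {R : Type u} [CommRing R] (L : ℕ ⥤ CochainComplex (ModuleCat.{u} R) ℤ)

/-- The terms of the telescope. -/
abbrev terms : ULift.{u + 1} ℕ → CochainComplex (ModuleCat.{u} R) ℤ := fun m => L.obj m.down

instance hasColimitsOfShape_index : HasColimitsOfShape (Discrete (ULift.{u + 1} ℕ)) (ModuleCat.{u} R) :=
  hasColimitsOfShape_of_equivalence (Discrete.equivalence Equiv.ulift.symm : Discrete ℕ ≌ _)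

/-- The successor map. -/
noncomputable def shiftMap : ∐ terms L ⟶ ∐ terms L :=
  Sigma.desc fun m => L.map (homOfLE (Nat.le_succ m.down)) ≫ Sigma.ι (terms L) ⟨m.down + 1⟩

/-- The component at `n`. -/
noncomputable def pr (n : ℕ) : ∐ terms L ⟶ L.obj n :=
  Sigma.desc fun m => if h : m.down = n then eqToHom (congrArg L.obj h) else 0

theorem ι_pr (n : ℕ) : Sigma.ι (terms L) ⟨n⟩ ≫ pr L n = 𝟙 _ := by
  simp [pr]

theorem ι_pr_ne {n m : ℕ} (h : m ≠ n) : Sigma.ι (terms L) ⟨m⟩ ≫ pr L n = 0 := by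
  simp [pr, h]

theorem shiftMap_pr_zero : shiftMap L ≫ pr L 0 = 0 :=
  Sigma.hom_ext _ _ fun m => by
    rw [shiftMap, Sigma.ι_desc_assoc, Category.assoc, ι_pr_ne L (show m.down + 1 ≠ 0 by omega), comp_zero, comp_zero]

theorem shiftMap_pr_succ (n : ℕ) : shiftMap L ≫ pr L (n + 1) = pr L n ≫ L.map (homOfLE (Nat.le_succ n)) :=
  Sigma.hom_ext _ _ fun m => by
    obtain ⟨m⟩ := m
    rw [shiftMap, Sigma.ι_desc_assoc, Category.assoc]
    by_cases h : m = n
    · subst h
      rw [ι_pr, Category.comp_id, ← Category.assoc, ι_pr, Category.id_comp]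
    · rw [ι_pr_ne L (show m + 1 ≠ n + 1 by omega), comp_zero, ← Category.assoc, ι_pr_ne L h, zero_comp]

theorem ι_shiftMap (m : ℕ) : Sigma.ι (terms L) ⟨m⟩ ≫ shiftMap L =
    L.map (homOfLE (Nat.le_succ m)) ≫ Sigma.ι (terms L) ⟨m + 1⟩ :=
  Sigma.ι_desc _ _

theorem pr_jointly_injective (j : ℤ) (x : (∐ terms L).X j) (h : ∀ n, ((pr L n).f j).hom x = 0) : x = 0 := by
  have hc := isColimitMapCoconeCofanMkEquiv (HomologicalComplex.eval (ModuleCat.{u} R) (ComplexShape.up ℤ) j)
    (terms L) (fun m => Sigma.ι (terms L) m) (isColimitOfPreserves _ (coproductIsCoproduct (terms L)))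
  have htop : (⨆ m, LinearMap.range ((Sigma.ι (terms L) m).f j).hom) = ⊤ := by
    rw [← Submodule.ker_mkQ (⨆ m, LinearMap.range ((Sigma.ι (terms L) m).f j).hom), LinearMap.ker_eq_top]
    have : ModuleCat.ofHom (Submodule.mkQ (⨆ m, LinearMap.range ((Sigma.ι (terms L) m).f j).hom)) = 0 :=
      Cofan.IsColimit.hom_ext hc _ _ fun m => by
        refine ModuleCat.hom_ext (LinearMap.ext fun y => ?_)
        simp only [ModuleCat.hom_comp, LinearMap.comp_apply, ModuleCat.hom_ofHom, Submodule.mkQ_apply,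
          ModuleCat.hom_zero, LinearMap.zero_apply]
        exact (Submodule.Quotient.mk_eq_zero _).2 (Submodule.mem_iSup_of_mem m ⟨y, rfl⟩)
    exact congrArg ModuleCat.Hom.hom this
  obtain ⟨S, hS⟩ := Submodule.exists_finset_of_mem_iSup _ (htop.ge (Submodule.mem_top (x := x)))
  obtain ⟨y, rfl⟩ := (Submodule.mem_iSup_finset_iff_exists_sum _ _).1 hS
  choose z hz using fun m => LinearMap.mem_range.1 (y m).2
  refine Finset.sum_eq_zero fun m hm => ?_
  have := h m.down
  rw [map_sum, Finset.sum_eq_single m] at this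
  · rw [← hz m] at this ⊢
    rw [show ((pr L m.down).f j).hom (((Sigma.ι (terms L) m).f j).hom (z m)) =
      ((Sigma.ι (terms L) m ≫ pr L m.down).f j).hom (z m) from rfl] at this
    rw [show z m = 0 by simpa [ι_pr L m.down] using this, map_zero]
  · intro b _ hb
    rw [← hz b]
    show ((Sigma.ι (terms L) b ≫ pr L m.down).f j).hom (z b) = 0
    rw [ι_pr_ne L (fun e => hb (ULift.ext _ _ e))]
    rfl
  · exact fun hm' => absurd hm hm'

theorem mono_id_sub_shiftMap : Mono (𝟙 _ - shiftMap L) := by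
  haveI : ∀ j, Mono ((𝟙 _ - shiftMap L).f j) := fun j => by
    rw [ModuleCat.mono_iff_injective, injective_iff_map_eq_zero]
    intro x hx
    refine pr_jointly_injective L j x fun n => ?_
    have hx' : x = ((shiftMap L).f j).hom x := by
      rw [← sub_eq_zero]
      exact hx
    induction n with
    | zero =>
      rw [hx']
      show ((shiftMap L ≫ pr L 0).f j).hom x = 0
      rw [shiftMap_pr_zero]
      rfl
    | succ n ih =>
      rw [hx']
      show ((shiftMap L ≫ pr L (n + 1)).f j).hom x = 0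
      rw [shiftMap_pr_succ]
      show ((L.map _).f j).hom (((pr L n).f j).hom x) = 0
      rw [ih, map_zero]
  exact HomologicalComplex.mono_of_mono_f _ this

variable {L} (c : Cocone L)

/-- The map to the colimit. -/
noncomputable def toPt : ∐ terms L ⟶ c.pt := Sigma.desc fun m => c.ι.app m.down

theorem ι_toPt (m : ℕ) : Sigma.ι (terms L) ⟨m⟩ ≫ toPt c = c.ι.app m := Sigma.ι_desc _ _

theorem sub_comp_toPt : (𝟙 _ - shiftMap L) ≫ toPt c = 0 :=
  Sigma.hom_ext _ _ fun m => by
    obtain ⟨m⟩ := m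
    rw [Preadditive.sub_comp, Category.id_comp, Preadditive.comp_sub, comp_zero, ι_toPt, ← Category.assoc,
      ι_shiftMap, Category.assoc, ι_toPt, c.w, sub_self]

/-- The telescope sequence. -/
noncomputable abbrev teleS : ShortComplex (CochainComplex (ModuleCat.{u} R) ℤ) :=
  ShortComplex.mk (𝟙 _ - shiftMap L) (toPt c) (sub_comp_toPt c)

theorem shortExact_teleS (hc : IsColimit c) : (teleS c).ShortExact := by
  have hmap : ∀ {Y : CochainComplex (ModuleCat.{u} R) ℤ} (g : ∐ terms L ⟶ Y), (𝟙 _ - shiftMap L) ≫ g = 0 →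
      ∀ (i j : ℕ) (h : i ≤ j), L.map (homOfLE h) ≫ Sigma.ι (terms L) ⟨j⟩ ≫ g = Sigma.ι (terms L) ⟨i⟩ ≫ g := by
    intro Y g hg i j h
    induction j, h using Nat.le_induction with
    | base => rw [show homOfLE (le_refl i) = 𝟙 i from rfl, L.map_id, Category.id_comp]
    | succ j hj ih =>
      have e : Sigma.ι (terms L) ⟨j⟩ ≫ g = L.map (homOfLE (Nat.le_succ j)) ≫ Sigma.ι (terms L) ⟨j + 1⟩ ≫ g := by
        have := congrArg (fun t => Sigma.ι (terms L) ⟨j⟩ ≫ t) hg
        simpa [Preadditive.sub_comp, Preadditive.comp_sub, reassoc_of% (ι_shiftMap L j), sub_eq_zero] using this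
      rw [← homOfLE_comp hj (Nat.le_succ j), L.map_comp, Category.assoc, ← e, ih]
  haveI : Mono (teleS c).f := mono_id_sub_shiftMap L
  haveI : Epi (teleS c).g := ⟨fun a b hab => hc.hom_ext fun m => by
    have := congrArg (fun t => Sigma.ι (terms L) ⟨m⟩ ≫ t) hab
    simpa only [reassoc_of% (ι_toPt c m)] using this⟩
  refine { exact := ShortComplex.exact_of_g_is_cokernel _ (CokernelCofork.IsColimit.ofπ _ _
    (fun g hg => hc.desc ⟨_, { app := fun m => Sigma.ι (terms L) ⟨m⟩ ≫ g, naturality := fun i j φ => ?_ }⟩)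
    (fun g hg => ?_) (fun g hg m hm => ?_)) }
  · simp only [Functor.const_obj_map, Category.comp_id]
    exact hmap g hg i j (leOfHom φ)
  · refine Sigma.hom_ext _ _ fun m => ?_
    obtain ⟨m⟩ := m
    rw [reassoc_of% (ι_toPt c m), hc.fac]
  · refine hc.hom_ext fun j => ?_
    rw [hc.fac, ← ι_toPt c j, Category.assoc, hm]

end Groth.Agent.CompactTele
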