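import Groth.Agent.CompactTele.Complex
import Groth.Agent.DQCoh.Coprod
import Groth.Agent.BrownDerived.Basic
import Groth.Prelude.Def_CohDer
import Groth.Prelude.Def_DRing2
import Mathlib.Algebra.Homology.DerivedCategory.ShortExact

/-!
# Objects commuting with countable sums see telescopes termwise
-/

set_option autoImplicit false
set_option backward.isDefEq.respectTransparency false

universe v u

open CategoryTheory Limits Pretriangulated

attribute [local instance] HasDerivedCategory.standard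

namespace Groth.Agent.CompactTele

variable {R : Type u} [CommRing R]

/-- Every map from `K` into a countable coproduct is a finite sum. -/
theorem exists_sum {K : Dual.D R}
    (hK : ∀ (E : ℕ → Dual.D R) [HasCoproduct fun i : ULift.{u + 1} ℕ => E i.down],
      Function.Bijective (CohDer.homSumToHomCoprod K (fun i : ULift.{u + 1} ℕ => E i.down)))
    (E : ℕ → Dual.D R) {c : Cofan fun i : ULift.{u + 1} ℕ => E i.down} (hc : IsColimit c) (t : K ⟶ c.pt) :
    ∃ (S : Finset (ULift.{u + 1} ℕ)) (g : ∀ m : ULift.{u + 1} ℕ, K ⟶ E m.down),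
      t = ∑ m ∈ S, g m ≫ c.inj m := by
  classical
  haveI : HasCoproduct fun i : ULift.{u + 1} ℕ => E i.down := ⟨⟨⟨c, hc⟩⟩⟩
  let e := (coproductIsCoproduct fun i : ULift.{u + 1} ℕ => E i.down).coconePointUniqueUpToIso hc
  have he : ∀ m, Sigma.ι (fun i : ULift.{u + 1} ℕ => E i.down) m ≫ e.hom = c.inj m := fun m =>
    IsColimit.comp_coconePointUniqueUpToIso_hom (coproductIsCoproduct fun i : ULift.{u + 1} ℕ => E i.down) hc ⟨m⟩
  obtain ⟨x, hx⟩ := (hK E).2 (t ≫ e.inv)
  refine ⟨DFinsupp.support x, fun m => x m, ?_⟩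
  have ht : t = CohDer.homSumToHomCoprod K (fun i : ULift.{u + 1} ℕ => E i.down) x ≫ e.hom := by
    rw [hx, Category.assoc, e.inv_hom_id, Category.comp_id]
  rw [ht]
  conv_lhs => rw [← DirectSum.sum_support_of x]
  rw [map_sum, Preadditive.sum_comp]
  refine Finset.sum_congr rfl fun m _ => ?_
  simp only [CohDer.homSumToHomCoprod]
  erw [DirectSum.toAddMonoid_of]
  show (x m ≫ Sigma.ι (fun i : ULift.{u + 1} ℕ => E i.down) m) ≫ e.hom = _
  rw [Category.assoc, he]

theorem factor_telescope (K : Dual.D R)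
    (hK : ∀ (E : ℕ → Dual.D R) [HasCoproduct fun i : ULift.{u + 1} ℕ => E i.down],
      Function.Bijective (CohDer.homSumToHomCoprod K (fun i : ULift.{u + 1} ℕ => E i.down)))
    (L : ℕ ⥤ DRing.Cx R) (c : Cocone L) (hc : IsColimit c) :
    (∀ x : K ⟶ DRing.toD c.pt, ∃ (n : ℕ) (y : K ⟶ DRing.toD (L.obj n)),
        y ≫ DerivedCategory.Q.map (c.ι.app n) = x) ∧
      (∀ (n : ℕ) (y : K ⟶ DRing.toD (L.obj n)), y ≫ DerivedCategory.Q.map (c.ι.app n) = 0 →
        ∃ (m : ℕ) (h : n ≤ m), y ≫ DerivedCategory.Q.map (L.map (homOfLE h)) = 0) := by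
  classical
  let Q := (DerivedCategory.Q (C := ModuleCat.{u} R))
  let E : ℕ → Dual.D R := fun n => Q.obj (L.obj n)
  obtain ⟨hQ⟩ := DQCoh.nonempty_isColimit_Q_coprod (A := ModuleCat.{u} R) (BrownDerived.hKinj) (terms L)
  let P := ∐ terms L
  have hS := shortExact_teleS c hc
  have hT := DerivedCategory.triangleOfSES_distinguished hS
  let δ : Q.obj c.pt ⟶ (Q.obj P)⟦(1 : ℤ)⟧ := DerivedCategory.triangleOfSESδ hS
  let pD : ∀ n, Q.obj P ⟶ E n := fun n => Q.map (pr L n)
  have sum_pr : ∀ {W : Dual.D R} (S : Finset (ULift.{u + 1} ℕ)) (g : ∀ m : ULift.{u + 1} ℕ, W ⟶ E m.down)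
      (n : ℕ), (∑ m ∈ S, g m ≫ Q.map (Sigma.ι (terms L) m)) ≫ pD n = if (⟨n⟩ : ULift.{u + 1} ℕ) ∈ S then g ⟨n⟩ else 0 := by
    intro W S g n
    rw [Preadditive.sum_comp]
    have key : ∀ m : ULift.{u + 1} ℕ, m ≠ ⟨n⟩ → (g m ≫ Q.map (Sigma.ι (terms L) m)) ≫ pD n = 0 := fun m hm => by
      rw [Category.assoc, ← Q.map_comp, ι_pr_ne L (fun h => hm (ULift.ext _ _ h)), Q.map_zero, comp_zero]
    split_ifs with h
    · rw [Finset.sum_eq_single (⟨n⟩ : ULift.{u + 1} ℕ) (fun m _ hm => key m hm) (fun h' => absurd h h'),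
        Category.assoc, ← Q.map_comp, ι_pr, Q.map_id, Category.comp_id]
    · exact Finset.sum_eq_zero fun m hm => key m fun e => h (e ▸ hm)
  have hpr0 : Q.map (shiftMap L) ≫ pD 0 = 0 := by rw [← Q.map_comp, shiftMap_pr_zero, Q.map_zero]
  have hprs : ∀ n, Q.map (shiftMap L) ≫ pD (n + 1) = pD n ≫ Q.map (L.map (homOfLE (Nat.le_succ n))) := fun n => by
    rw [← Q.map_comp, shiftMap_pr_succ, Q.map_comp]
  have hinj : ∀ t : K ⟶ (Q.obj P)⟦(1 : ℤ)⟧, t ≫ (Q.map (𝟙 _ - shiftMap L))⟦(1 : ℤ)⟧' = 0 → t = 0 := by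
    intro t ht
    have ht' : t = t ≫ (Q.map (shiftMap L))⟦(1 : ℤ)⟧' := by
      rw [Q.map_sub, Q.map_id, Functor.map_sub, CategoryTheory.Functor.map_id, Preadditive.comp_sub,
        Category.comp_id, sub_eq_zero] at ht
      exact ht
    have hcomp : ∀ n, t ≫ (pD n)⟦(1 : ℤ)⟧' = 0 := by
      intro n
      induction n with
      | zero => rw [ht', Category.assoc, ← Functor.map_comp, hpr0, Functor.map_zero, comp_zero]
      | succ n ih =>
        rw [ht', Category.assoc, ← Functor.map_comp, hprs, Functor.map_comp, ← Category.assoc, ih, zero_comp]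
    have hc1 := isColimitCofanMkObjOfIsColimit (shiftFunctor (Dual.D R) (1 : ℤ)) _ _ hQ
    obtain ⟨S, g, hg⟩ := exists_sum hK (fun n => (E n)⟦(1 : ℤ)⟧) hc1 t
    subst hg
    refine Finset.sum_eq_zero fun m hm => ?_
    have h := hcomp m.down
    rw [Preadditive.sum_comp, Finset.sum_eq_single m] at h
    · simp only [Cofan.inj, Cofan.mk_ι_app, Category.assoc] at h
      rw [← Functor.map_comp, ← Q.map_comp, ι_pr L m.down, Q.map_id] at h
      erw [CategoryTheory.Functor.map_id, Category.comp_id] at h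
      rw [h, zero_comp]
    · intro b _ hb
      simp only [Cofan.inj, Cofan.mk_ι_app, Category.assoc]
      rw [← Functor.map_comp, ← Q.map_comp, ι_pr_ne L (fun e => hb (ULift.ext _ _ e)), Q.map_zero,
        Functor.map_zero, comp_zero]
    · exact fun h' => absurd hm h'
  refine ⟨fun x => ?_, fun n y hy => ?_⟩
  · have hx : x ≫ δ = 0 := hinj _ (by
      rw [Category.assoc, show δ ≫ (Q.map (𝟙 _ - shiftMap L))⟦(1 : ℤ)⟧' = 0 from comp_distTriang_mor_zero₃₁ _ hT,
        comp_zero])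
    obtain ⟨w, hw⟩ := Triangle.coyoneda_exact₃ _ hT x hx
    change K ⟶ Q.obj P at w
    change x = w ≫ Q.map (toPt c) at hw
    obtain ⟨S, g, hg⟩ := exists_sum hK E hQ w
    have hN : ∀ m ∈ S, m.down ≤ S.sup ULift.down := fun m hm => Finset.le_sup hm
    refine ⟨S.sup ULift.down, ∑ m ∈ S.attach, g m.1 ≫ Q.map (L.map (homOfLE (hN m.1 m.2))), ?_⟩
    rw [hw, hg, Preadditive.sum_comp, Preadditive.sum_comp, ← Finset.sum_attach S]
    refine Finset.sum_congr rfl fun m _ => ?_
    simp only [Cofan.inj, Cofan.mk_ι_app, Category.assoc]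
    rw [← Q.map_comp, ← Q.map_comp, c.w]
    exact congrArg (fun t => g m.1 ≫ Q.map t) (ι_toPt c m.1.down).symm
  · have hy' : (y ≫ Q.map (Sigma.ι (terms L) ⟨n⟩)) ≫ Q.map (toPt c) = 0 := by
      rw [Category.assoc, ← Q.map_comp, ι_toPt]
      exact hy
    obtain ⟨w, hw⟩ := Triangle.coyoneda_exact₂ _ hT (y ≫ Q.map (Sigma.ι (terms L) ⟨n⟩)) hy'
    change K ⟶ Q.obj P at w
    change y ≫ Q.map (Sigma.ι (terms L) ⟨n⟩) = w ≫ Q.map (𝟙 _ - shiftMap L) at hw
    rw [Q.map_sub, Q.map_id, Preadditive.comp_sub, Category.comp_id] at hw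
    have e0 : ∀ m, m ≠ n → (y ≫ Q.map (Sigma.ι (terms L) ⟨n⟩)) ≫ pD m = 0 := fun m hm => by
      rw [Category.assoc, ← Q.map_comp, ι_pr_ne L (Ne.symm hm), Q.map_zero, comp_zero]
    have en : (y ≫ Q.map (Sigma.ι (terms L) ⟨n⟩)) ≫ pD n = y := by
      rw [Category.assoc, ← Q.map_comp, ι_pr, Q.map_id, Category.comp_id]
    have r0 : (y ≫ Q.map (Sigma.ι (terms L) ⟨n⟩)) ≫ pD 0 = w ≫ pD 0 := by
      rw [hw, Preadditive.sub_comp, Category.assoc, hpr0, comp_zero, sub_zero]
    have rs : ∀ j, (y ≫ Q.map (Sigma.ι (terms L) ⟨n⟩)) ≫ pD (j + 1) =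
        w ≫ pD (j + 1) - (w ≫ pD j) ≫ Q.map (L.map (homOfLE (Nat.le_succ j))) := fun j => by
      rw [hw, Preadditive.sub_comp, Category.assoc, hprs, Category.assoc]
    have low : ∀ j, j < n → w ≫ pD j = 0 := by
      intro j hj
      induction j with
      | zero => rw [← r0, e0 0 (by omega)]
      | succ j ih =>
        have := rs j
        rw [e0 (j + 1) (by omega), ih (by omega), zero_comp, sub_zero] at this
        exact this.symm
    have hbn : w ≫ pD n = y := by
      cases n with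
      | zero => rw [← r0, en]
      | succ j =>
        have := rs j
        rw [en, low j (by omega), zero_comp, sub_zero] at this
        exact this.symm
    have high : ∀ j (h : n ≤ j), w ≫ pD j = y ≫ Q.map (L.map (homOfLE h)) := by
      intro j h
      induction j, h using Nat.le_induction with
      | base => rw [show homOfLE (le_refl n) = 𝟙 n from rfl, L.map_id, Q.map_id, Category.comp_id, hbn]
      | succ j hj ih =>
        have := rs j
        rw [e0 (j + 1) (by omega), eq_comm, sub_eq_zero] at this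
        rw [this, ih, Category.assoc, ← Q.map_comp, ← L.map_comp, homOfLE_comp]
    obtain ⟨S, g, hg⟩ := exists_sum hK E hQ w
    let M := max n (S.sup ULift.down + 1)
    refine ⟨M, le_max_left _ _, ?_⟩
    rw [← high M (le_max_left _ _), hg]
    simp only [Cofan.inj, Cofan.mk_ι_app]
    rw [sum_pr S g M, if_neg]
    intro hM
    have h1 : M ≤ S.sup ULift.down := Finset.le_sup (f := ULift.down) hM
    omega

end Groth.Agent.CompactTele
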